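import Groth.Prelude.Def_NonAbH2
import Mathlib.CategoryTheory.Sites.SubcanonicalOver

/-!
# fppf exact sequences of group schemes: kernels, local lifts and descent of morphisms
-/

set_option autoImplicit false
set_option backward.isDefEq.respectTransparency false

universe u

open CategoryTheory MonoidalCategory CartesianMonoidalCategory MonObj GrpObj AlgebraicGeometry
open CategoryTheory.Limits

namespace Groth.Agent.FppfExtLib

variable {S : Scheme.{u}} {P G E : Over S} [GrpObj P] [GrpObj G] [GrpObj E]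
  {u : G ⟶ E} {v : E ⟶ P}

theorem isMonHom_left (hex : NonAbH1.IsExactSeq Scheme.fppfPrecoverage u v) : IsMonHom u := hex.1

theorem isMonHom_right (hex : NonAbH1.IsExactSeq Scheme.fppfPrecoverage u v) : IsMonHom v := hex.2.1

theorem whiskerLeft_mul (u : G ⟶ E) : (E ◁ u) ≫ μ[E] = fst E G * (snd E G ≫ u) := by
  show _ = lift (fst E G) (snd E G ≫ u) ≫ μ[E]
  congr 1

/-- `u` is a monomorphism on points. -/
theorem eq_of_comp_eq (hex : NonAbH1.IsExactSeq Scheme.fppfPrecoverage u v) {T : Over S} {c c' : T ⟶ G}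
    (h : c ≫ u = c' ≫ u) : c = c' := by
  have key : lift (1 : T ⟶ E) c = lift (1 : T ⟶ E) c' := by
    refine hex.2.2.2.1.hom_ext ?_ ?_
    · simp only [lift_fst]
    · rw [whiskerLeft_mul]
      simp only [MonObj.comp_mul, lift_fst, lift_snd_assoc, h]
  simpa only [lift_snd] using congrArg (fun z => z ≫ snd E G) key

/-- Points in the kernel of `v` come from `G`. -/
theorem exists_of_comp_eq_one (hex : NonAbH1.IsExactSeq Scheme.fppfPrecoverage u v) {T : Over S}
    (w : T ⟶ E) (hw : w ≫ v = 1) : ∃ c : T ⟶ G, c ≫ u = w := by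
  haveI := isMonHom_right hex
  obtain ⟨z, h1, h2⟩ := hex.2.2.2.1.exists_lift (1 : T ⟶ E) w (by rw [MonObj.one_comp, hw])
  refine ⟨z ≫ snd E G, ?_⟩
  rw [whiskerLeft_mul, MonObj.comp_mul, h1, _root_.one_mul] at h2
  rw [Category.assoc, h2]

theorem comp_comp_eq_one (hex : NonAbH1.IsExactSeq Scheme.fppfPrecoverage u v) {T : Over S} (c : T ⟶ G) :
    (c ≫ u) ≫ v = 1 := by
  rw [Category.assoc, hex.2.2.1, MonObj.comp_one]

/-- The sieve of morphisms along which a point of `P` lifts to `E`. -/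
def liftSieve (v : E ⟶ P) {Z : Over S} (p : Z ⟶ P) : Sieve Z where
  arrows W g := ∃ e : W ⟶ E, e ≫ v = g ≫ p
  downward_closed := by
    rintro W W' g ⟨e, he⟩ a
    exact ⟨a ≫ e, by rw [Category.assoc, he, Category.assoc]⟩

/-- Points of `P` lift fppf locally to `E`. -/
theorem liftSieve_mem (hex : NonAbH1.IsExactSeq Scheme.fppfPrecoverage u v) {Z : Over S} (p : Z ⟶ P) :
    liftSieve v p ∈ (Scheme.fppfTopology.over S) Z := by
  obtain ⟨R, hR, hsec⟩ := hex.2.2.2.2
  rw [GrothendieckTopology.mem_over_iff]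
  refine Scheme.fppfTopology.superset_covering (fun T h hh => ?_)
    (Scheme.fppfTopology.pullback_stable p.left (Precoverage.generate_mem_toGrothendieck hR))
  obtain ⟨S', a, f, hf, haf⟩ := hh
  obtain ⟨s, hs⟩ := hsec f hf
  rw [Sieve.overEquiv_iff]
  have hs' : s ≫ v.left = f := hs
  have hsE : (a ≫ s) ≫ E.hom = h ≫ Z.hom := by
    rw [← Over.w v, Category.assoc, reassoc_of% hs', reassoc_of% haf]
    rw [Over.w p]
  refine ⟨Over.homMk (a ≫ s) hsE, Over.OverMorphism.ext ?_⟩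
  show (a ≫ s) ≫ v.left = h ≫ p.left
  rw [Category.assoc, hs', haf]

/-- Morphisms are determined on a covering sieve. -/
theorem hom_ext_sieve {Z W : Over S} {R : Sieve Z} (hR : R ∈ (Scheme.fppfTopology.over S) Z)
    (a b : Z ⟶ W) (h : ∀ ⦃T : Over S⦄ (g : T ⟶ Z), R g → g ≫ a = g ≫ b) : a = b :=
  (((GrothendieckTopology.Subcanonical.isSheaf_of_isRepresentable (yoneda.obj W)) R hR).isSeparatedFor).ext
    fun _ g hg => h g hg

/-- Morphisms glue along a covering sieve. -/
theorem exists_glue {Z W : Over S} {R : Sieve Z} (hR : R ∈ (Scheme.fppfTopology.over S) Z)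
    (x : ∀ ⦃T : Over S⦄ (g : T ⟶ Z), R g → (T ⟶ W))
    (hx : ∀ ⦃T₁ T₂ : Over S⦄ (g₁ : T₁ ⟶ Z) (h₁ : R g₁) (a : T₂ ⟶ T₁) (h₂ : R (a ≫ g₁)),
      x (a ≫ g₁) h₂ = a ≫ x g₁ h₁) :
    ∃ f : Z ⟶ W, ∀ ⦃T : Over S⦄ (g : T ⟶ Z) (hg : R g), g ≫ f = x g hg := by
  let fam : Presieve.FamilyOfElements (yoneda.obj W) R.arrows := fun T g hg => x g hg
  have hc : fam.Compatible := by
    rw [Presieve.compatible_iff_sieveCompatible]
    intro T T' g a hg
    exact hx g hg a _
  obtain ⟨f, hf, -⟩ := (GrothendieckTopology.Subcanonical.isSheaf_of_isRepresentable (yoneda.obj W)) R hR fam hc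
  exact ⟨f, fun T g hg => hf g hg⟩

end Groth.Agent.FppfExtLib
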