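import Groth.Agent.FppfExtLib.Etale
import Groth.Prelude.Def_TwC
import Groth.Agent.GrpSchLib.Basic

/-!
# Constant groups over a field: points, connected sources, torsion-freeness
-/

set_option autoImplicit false
set_option backward.isDefEq.respectTransparency false

universe u

open CategoryTheory MonoidalCategory CartesianMonoidalCategory MonObj GrpObj AlgebraicGeometry
open CategoryTheory.Limits

namespace Groth.Agent.FppfExtLib

variable {k : Type u} [Field k] {Z : Type u} [Group Z]
  {G : Over (Spec (CommRingCat.of k))} [GrpObj G] (eG : G ≅ TwC.const (Spec (CommRingCat.of k)) Z)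

include eG in
omit [GrpObj G] in
theorem etale_of_const : AlgebraicGeometry.Etale G.hom := by
  rw [← Over.w eG.hom]
  haveI : AlgebraicGeometry.Etale (TwC.const (Spec (CommRingCat.of k)) Z).hom :=
    IsZariskiLocalAtSource.sigmaDesc (P := @AlgebraicGeometry.Etale) fun _ => inferInstance
  haveI : IsIso eG.hom.left := (Over.forget _).map_isIso eG.hom
  infer_instance

/-- The rational point of index `m`. -/
noncomputable def gpt (m : Z) : 𝟙_ (Over (Spec (CommRingCat.of k))) ⟶ G :=
  TwC.pt (Spec (CommRingCat.of k)) Z m ≫ eG.inv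

/-- The copy of the base of index `m`. -/
noncomputable def piece (m : Z) : G.left.Opens :=
  eG.hom.left ⁻¹ᵁ (Sigma.ι (fun _ : Z => Spec (CommRingCat.of k)) m).opensRange

theorem gpt_mem (m : Z) (s : (Spec (CommRingCat.of k))) : (gpt eG m).left s ∈ piece eG m := by
  show eG.hom.left ((gpt eG m).left s) ∈ (Sigma.ι (fun _ : Z => Spec (CommRingCat.of k)) m).opensRange
  refine ⟨s, ?_⟩
  rw [← Scheme.Hom.comp_apply, ← Over.comp_left, gpt, Category.assoc, eG.inv_hom_id, Category.comp_id]
  rfl

theorem exists_mem_piece (g : G.left) : ∃ m, g ∈ piece eG m := by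
  obtain ⟨m, y, hy⟩ := (sigmaOpenCover fun _ : Z => Spec (CommRingCat.of k)).exists_eq (eG.hom.left g)
  exact ⟨m, y, hy⟩

theorem eq_of_mem_piece {g : G.left} {m n : Z} (h₁ : g ∈ piece eG m) (h₂ : g ∈ piece eG n) : m = n := by
  by_contra hne
  exact (disjoint_opensRange_sigmaι (fun _ : Z => Spec (CommRingCat.of k)) m n hne).le_bot ⟨h₁, h₂⟩

/-- A point with values in one copy is that rational point. -/
theorem eq_of_range {T : Over (Spec (CommRingCat.of k))} (c : T ⟶ G) (m : Z) (h : ∀ t, c.left t ∈ piece eG m) :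
    c = toUnit T ≫ gpt eG m := by
  have hr : Set.range (c ≫ eG.hom).left ⊆ Set.range (Sigma.ι (fun _ : Z => Spec (CommRingCat.of k)) m) := by
    rintro _ ⟨t, rfl⟩
    exact h t
  let l := IsOpenImmersion.lift (Sigma.ι (fun _ : Z => Spec (CommRingCat.of k)) m) (c ≫ eG.hom).left hr
  have hl : l ≫ Sigma.ι (fun _ : Z => Spec (CommRingCat.of k)) m = (c ≫ eG.hom).left :=
    IsOpenImmersion.lift_fac _ _ _
  have hl' : l = T.hom := by
    have := congrArg (fun f => f ≫ (TwC.const (Spec (CommRingCat.of k)) Z).hom) hl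
    simp only [Category.assoc, Over.w] at this
    rw [← this]
    simp
  rw [← cancel_mono eG.hom, gpt, Category.assoc, Category.assoc, eG.inv_hom_id, Category.comp_id]
  ext1
  rw [← hl, hl']
  rfl

theorem isOpen_compl_piece (m : Z) : IsOpen ((piece eG m : Set G.left)ᶜ) := by
  have : ((piece eG m : Set G.left)ᶜ) = ⋃ (n : Z) (_ : n ≠ m), (piece eG n : Set G.left) := by
    ext g
    simp only [Set.mem_compl_iff, Set.mem_iUnion, SetLike.mem_coe]
    constructor
    · intro hg
      obtain ⟨n, hn⟩ := exists_mem_piece eG g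
      exact ⟨n, fun h => hg (h ▸ hn), hn⟩
    · rintro ⟨n, hne, hn⟩ hg
      exact hne (eq_of_mem_piece eG hn hg)
  rw [this]
  exact isOpen_iUnion fun n => isOpen_iUnion fun _ => (piece eG n).2

/-- A point with connected source is a rational point. -/
theorem exists_eq_gpt {T : Over (Spec (CommRingCat.of k))} [ConnectedSpace T.left] (c : T ⟶ G) :
    ∃ m, c = toUnit T ≫ gpt eG m := by
  obtain ⟨t₀⟩ : Nonempty T.left := inferInstance
  obtain ⟨m, hm⟩ := exists_mem_piece eG (c.left t₀)
  refine ⟨m, eq_of_range eG c m fun t => ?_⟩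
  have hcl : IsClopen (c.left ⁻¹' (piece eG m : Set G.left)) :=
    ⟨⟨(isOpen_compl_piece eG m).preimage c.left.continuous⟩, (piece eG m).2.preimage c.left.continuous⟩
  exact (hcl.eq_univ ⟨t₀, hm⟩).ge (Set.mem_univ t)

theorem finite_meet {A : Set G.left} (hA : IsCompact A) : {m : Z | ((piece eG m : Set G.left) ∩ A).Nonempty}.Finite := by
  obtain ⟨F, hF⟩ := hA.elim_finite_subcover (fun m : Z => (piece eG m : Set G.left)) (fun m => (piece eG m).2)
    fun g _ => Set.mem_iUnion.2 (exists_mem_piece eG g)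
  refine F.finite_toSet.subset fun m hm => ?_
  obtain ⟨g, hgm, hgA⟩ := hm
  obtain ⟨n, hn, hgn⟩ := Set.mem_iUnion₂.1 (hF hgA)
  rwa [eq_of_mem_piece eG hgm hgn]

variable {eG} (hG : TwC.IsConstGrp Z G eG)
include hG

theorem gpt_mul (m n : Z) : gpt eG m * gpt eG n = gpt eG (m * n) := hG m n

theorem gpt_one : gpt eG 1 = 1 := by
  have h := gpt_mul hG 1 1
  rw [_root_.mul_one] at h
  simpa using h

theorem toUnit_gpt_one (T : Over (Spec (CommRingCat.of k))) : toUnit T ≫ gpt eG 1 = 1 := by
  rw [gpt_one hG, MonObj.comp_one]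

theorem gpt_pow (m : Z) (n : ℕ) : gpt eG m ^ n = gpt eG (m ^ n) := by
  induction n with
  | zero => rw [pow_zero, pow_zero, gpt_one hG]
  | succ n ih => rw [pow_succ, ih, gpt_mul hG, pow_succ]

omit hG in
/-- An element whose powers form a finite set has finite order. -/
theorem isOfFinOrder_of_finite {F : Set Z} (hF : F.Finite) (z : Z) (h : ∀ n : ℕ, z ^ n ∈ F) : IsOfFinOrder z := by
  by_contra hz
  exact Set.infinite_range_of_injective (injective_pow_iff_not_isOfFinOrder.2 hz)
    (hF.subset (Set.range_subset_iff.2 h))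

end Groth.Agent.FppfExtLib
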