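import Groth.Agent.FppfExtLib.Basic
import Groth.Agent.GrpSchLib.Separated
import Groth.Agent.GrpSchLib.Component
import Mathlib.AlgebraicGeometry.Morphisms.LocalFlatDescent

/-!
# The projection of an fppf extension by an étale group over a field is étale
-/

set_option autoImplicit false
set_option backward.isDefEq.respectTransparency false

universe u

open CategoryTheory MonoidalCategory CartesianMonoidalCategory MonObj GrpObj AlgebraicGeometry
open CategoryTheory.Limits

namespace Groth.Agent.FppfExtLib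

section Trivial

variable {S : Scheme.{u}} {P G E : Over S} [GrpObj P] [GrpObj G] [GrpObj E]
  {u : G ⟶ E} {v : E ⟶ P}

/-- Over a lift the extension is trivial. -/
theorem isPullback_of_lift (hex : NonAbH1.IsExactSeq Scheme.fppfPrecoverage u v) {T : Over S} (e : T ⟶ E) :
    IsPullback ((fst T G ≫ e) * (snd T G ≫ u)) (fst T G) v (e ≫ v) := by
  haveI := isMonHom_right hex
  have hsq : ((fst T G ≫ e) * (snd T G ≫ u)) ≫ v = fst T G ≫ e ≫ v := by
    rw [MonObj.mul_comp, Category.assoc, comp_comp_eq_one hex, _root_.mul_one]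
  refine ⟨⟨hsq⟩, ⟨PullbackCone.isLimitAux' _ fun s => ?_⟩⟩
  have hs : s.fst ≫ v = s.snd ≫ e ≫ v := s.condition
  have hk : ((s.snd ≫ e)⁻¹ * s.fst) ≫ v = 1 := by
    rw [MonObj.mul_comp, GrpObj.inv_comp, Category.assoc, hs, inv_mul_cancel]
  choose c hc using exists_of_comp_eq_one hex _ hk
  refine ⟨lift s.snd c, ?_, lift_fst _ _, fun {m} h₁ h₂ => ?_⟩
  · show lift s.snd c ≫ ((fst T G ≫ e) * (snd T G ≫ u)) = s.fst
    rw [MonObj.comp_mul, lift_fst_assoc, lift_snd_assoc, hc, mul_inv_cancel_left]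
  · change m ≫ ((fst T G ≫ e) * (snd T G ≫ u)) = s.fst at h₁
    change m ≫ fst T G = s.snd at h₂
    rw [MonObj.comp_mul, reassoc_of% h₂] at h₁
    refine CartesianMonoidalCategory.hom_ext _ _ (by rw [lift_fst, h₂]) ?_
    rw [lift_snd]
    refine eq_of_comp_eq hex ?_
    rw [hc, ← h₁, inv_mul_cancel_left, Category.assoc]

end Trivial

variable {k : Type u} [Field k] {P G E : Over (Spec (CommRingCat.of k))} [GrpObj P] [GrpObj G] [GrpObj E]
  {u : G ⟶ E} {v : E ⟶ P}

/-- An fppf extension by an étale group is étale over the quotient. -/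
theorem etale_right (hex : NonAbH1.IsExactSeq Scheme.fppfPrecoverage u v) [LocallyOfFiniteType P.hom]
    [AlgebraicGeometry.Etale G.hom] : AlgebraicGeometry.Etale v.left := by
  obtain ⟨R, hR, hsec⟩ := hex.2.2.2.2
  obtain ⟨J, X, f, rfl⟩ := Presieve.exists_eq_ofArrows R
  rw [show Scheme.fppfPrecoverage = Scheme.precoverage (@Flat ⊓ @LocallyOfFinitePresentation) from rfl,
    Scheme.ofArrows_mem_precoverage_iff] at hR
  refine IsZariskiLocalAtTarget.of_forall_exists_morphismRestrict (P := @AlgebraicGeometry.Etale) fun p => ?_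
  obtain ⟨i, x, hx⟩ := hR.1 p
  haveI : Flat (f i) := (hR.2 i).1
  haveI : LocallyOfFinitePresentation (f i) := (hR.2 i).2
  obtain ⟨W, hW, hxW, -⟩ := exists_isAffineOpen_mem_and_subset (x := x) (U := ⊤) trivial
  let h : W.toScheme ⟶ P.left := W.ι ≫ f i
  haveI : UniversallyOpen h := by
    haveI : Flat h := inferInstanceAs (Flat (W.ι ≫ f i))
    haveI : LocallyOfFinitePresentation h := inferInstanceAs (LocallyOfFinitePresentation (W.ι ≫ f i))
    exact inferInstance
  have hp : p ∈ Set.range h := ⟨⟨x, hxW⟩, hx⟩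
  haveI : IsSeparated P.hom := GrpSchLib.isSeparated_hom
  haveI : CompactSpace W.toScheme := isCompact_iff_compactSpace.mp hW.isCompact
  haveI : QuasiCompact (h ≫ P.hom) :=
    (quasiCompact_iff_compactSpace (h ≫ P.hom)).2 inferInstance
  haveI : QuasiCompact h := QuasiCompact.of_comp h P.hom
  obtain ⟨V, hV, hpV, hVr⟩ := exists_isAffineOpen_mem_and_subset (x := p)
    (U := ⟨Set.range h, h.isOpenMap.isOpen_range⟩) hp
  refine ⟨V, hpV, ?_⟩
  haveI : QuasiCompact (h ∣_ V) := IsZariskiLocalAtTarget.restrict (P := @QuasiCompact) inferInstance V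
  haveI : Flat (h ∣_ V) := IsZariskiLocalAtTarget.restrict (P := @Flat)
    (inferInstanceAs (Flat (W.ι ≫ f i))) V
  have hsurj : Surjective (h ∣_ V) := ⟨fun y => by
    obtain ⟨z, hz⟩ := hVr y.2
    let z' : (h ⁻¹ᵁ V).toScheme := ⟨z, show h z ∈ V from hz ▸ y.2⟩
    refine ⟨z', Subtype.ext ?_⟩
    have e : V.ι ((h ∣_ V) z') = h ((h ⁻¹ᵁ V).ι z') := by
      rw [← Scheme.Hom.comp_apply, morphismRestrict_ι, Scheme.Hom.comp_apply]
    exact e.trans hz⟩
  let W' := h ⁻¹ᵁ V
  obtain ⟨s, hs⟩ := hsec (f i) (Presieve.ofArrows.mk i)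
  have hs' : s ≫ v.left = f i := hs
  let T : Over (Spec (CommRingCat.of k)) := Over.mk ((W'.ι ≫ h) ≫ P.hom)
  let e : T ⟶ E := Over.homMk (W'.ι ≫ W.ι ≫ s) (by
    show (W'.ι ≫ W.ι ≫ s) ≫ E.hom = (W'.ι ≫ h) ≫ P.hom
    rw [← Over.w v]
    simp only [Category.assoc, h, reassoc_of% hs'])
  have he : (e ≫ v).left = (h ∣_ V) ≫ V.ι := by
    rw [morphismRestrict_ι]
    show (W'.ι ≫ W.ι ≫ s) ≫ v.left = W'.ι ≫ h
    simp only [Category.assoc, h, hs']
  have h1 : IsPullback ((fst T G ≫ e) * (snd T G ≫ u)).left (fst T G).left v.left (e ≫ v).left :=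
    (isPullback_of_lift hex e).map (Over.forget _)
  have h2 : IsPullback (pullback.fst (v.left ∣_ V) (h ∣_ V) ≫ (v.left ⁻¹ᵁ V).ι)
      (pullback.snd (v.left ∣_ V) (h ∣_ V)) v.left ((h ∣_ V) ≫ V.ι) :=
    (IsPullback.of_hasPullback (v.left ∣_ V) (h ∣_ V)).paste_horiz (isPullback_morphismRestrict v.left V).flip
  rw [← he] at h2
  have het : AlgebraicGeometry.Etale (fst T G).left :=
    inferInstanceAs (AlgebraicGeometry.Etale (pullback.fst T.hom G.hom))
  have hsnd : AlgebraicGeometry.Etale (pullback.snd (v.left ∣_ V) (h ∣_ V)) := by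
    rw [← h2.isoIsPullback_hom_snd _ _ h1]
    haveI := het
    infer_instance
  exact MorphismProperty.of_isPullback_of_descendsAlong
    (Q := (@Surjective ⊓ @Flat ⊓ @QuasiCompact : MorphismProperty Scheme.{u}))
    (IsPullback.of_hasPullback (v.left ∣_ V) (h ∣_ V)).flip ⟨⟨hsurj, inferInstance⟩, inferInstance⟩ hsnd

end Groth.Agent.FppfExtLib
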