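import Groth.Agent.FppfExtLib.Const

/-!
# Automorphisms of fppf extensions by constant groups
-/

set_option autoImplicit false
set_option backward.isDefEq.respectTransparency false

universe u

open CategoryTheory MonoidalCategory CartesianMonoidalCategory MonObj GrpObj AlgebraicGeometry
open CategoryTheory.Limits

namespace Groth.Agent.FppfExtLib

section Defect

variable {S : Scheme.{u}} {P G E : Over S} [GrpObj P] [GrpObj G] [GrpObj E]
  {u : G ⟶ E} {v : E ⟶ P}

/-- The defect of an automorphism of the extension descends to a map `P ⟶ G`. -/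
theorem exists_defect (hex : NonAbH1.IsExactSeq Scheme.fppfPrecoverage u v) (φ : E ⟶ E) [IsMonHom φ]
    (hu : u ≫ φ = u) (hv : φ ≫ v = v) :
    ∃ f : P ⟶ G, ∀ (T : Over S) (e : T ⟶ E), ((e ≫ v) ≫ f) ≫ u = (e ≫ φ) * e⁻¹ := by
  haveI := isMonHom_left hex
  haveI := isMonHom_right hex
  have hk : ∀ (T : Over S) (e : T ⟶ E), ((e ≫ φ) * e⁻¹) ≫ v = 1 := fun T e => by
    rw [MonObj.mul_comp, GrpObj.inv_comp, Category.assoc, hv, mul_inv_cancel]
  choose c hc using fun T e => exists_of_comp_eq_one hex _ (hk T e)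
  have hind : ∀ (T : Over S) (e e' : T ⟶ E), e ≫ v = e' ≫ v → c T e = c T e' := by
    intro T e e' h
    obtain ⟨d, hd⟩ := exists_of_comp_eq_one hex (e⁻¹ * e') (by
      rw [MonObj.mul_comp, GrpObj.inv_comp, h, inv_mul_cancel])
    refine eq_of_comp_eq hex ?_
    rw [hc, hc, show e' = e * (d ≫ u) by rw [hd, mul_inv_cancel_left], MonObj.mul_comp,
      Category.assoc d u φ, hu, _root_.mul_inv_rev]
    group
  have hR := liftSieve_mem hex (𝟙 P)
  obtain ⟨f, hf⟩ := exists_glue hR (fun T g hg => c T hg.choose) (fun T₁ T₂ g₁ h₁ a h₂ => by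
    rw [hind _ h₂.choose (a ≫ h₁.choose) (by
      rw [h₂.choose_spec, Category.assoc, Category.assoc, h₁.choose_spec])]
    refine eq_of_comp_eq hex ?_
    simp only [hc, Category.assoc, MonObj.comp_mul, GrpObj.comp_inv])
  refine ⟨f, fun T e => ?_⟩
  have hg : liftSieve v (𝟙 P) (e ≫ v) := ⟨e, by rw [Category.comp_id]⟩
  rw [hf (e ≫ v) hg, hind _ hg.choose e (by rw [hg.choose_spec, Category.comp_id]), hc]

theorem eq_id_of_defect (hex : NonAbH1.IsExactSeq Scheme.fppfPrecoverage u v) (φ : E ⟶ E) (f : P ⟶ G)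
    (hf : ∀ (T : Over S) (e : T ⟶ E), ((e ≫ v) ≫ f) ≫ u = (e ≫ φ) * e⁻¹) (h1 : f = 1) : φ = 𝟙 E := by
  haveI := isMonHom_left hex
  have h := hf E (𝟙 E)
  rw [h1, MonObj.comp_one, MonObj.one_comp, Category.id_comp] at h
  exact eq_of_mul_inv_eq_one h.symm

/-- For a commutative extension the defect is a homomorphism. -/
theorem isMonHom_defect (hex : NonAbH1.IsExactSeq Scheme.fppfPrecoverage u v) [IsCommMonObj E]
    (φ : E ⟶ E) [IsMonHom φ] (f : P ⟶ G)
    (hf : ∀ (T : Over S) (e : T ⟶ E), ((e ≫ v) ≫ f) ≫ u = (e ≫ φ) * e⁻¹) (T : Over S) (x y : T ⟶ P) :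
    (x * y) ≫ f = (x ≫ f) * (y ≫ f) := by
  haveI := isMonHom_left hex
  haveI := isMonHom_right hex
  refine hom_ext_sieve (GrothendieckTopology.intersection_covering _ (liftSieve_mem hex x) (liftSieve_mem hex y))
    _ _ fun T' g hg => ?_
  obtain ⟨⟨a, ha⟩, ⟨b, hb⟩⟩ := hg
  refine eq_of_comp_eq hex ?_
  have hab : g ≫ (x * y) = (a * b) ≫ v := by rw [MonObj.mul_comp, ha, hb, MonObj.comp_mul]
  have hx : g ≫ x ≫ f = (a ≫ v) ≫ f := by rw [ha, Category.assoc]
  have hy : g ≫ y ≫ f = (b ≫ v) ≫ f := by rw [hb, Category.assoc]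
  rw [← Category.assoc g, hab, hf, MonObj.comp_mul, hx, hy,
    MonObj.mul_comp ((a ≫ v) ≫ f) ((b ≫ v) ≫ f) u, hf, hf, MonObj.mul_comp a b φ, _root_.mul_inv_rev,
    mul_comm b⁻¹ a⁻¹]
  exact mul_mul_mul_comm _ _ _ _

end Defect

variable {k : Type u} [Field k] {Z : Type u} [Group Z] {P G E : Over (Spec (CommRingCat.of k))}
  [GrpObj P] [GrpObj G] [GrpObj E] {eG : G ≅ TwC.const (Spec (CommRingCat.of k)) Z}
  {u : G ⟶ E} {v : E ⟶ P}

theorem eq_id_of_connected (hG : TwC.IsConstGrp Z G eG) (hex : NonAbH1.IsExactSeq Scheme.fppfPrecoverage u v)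
    [ConnectedSpace P.left] (φ : E ⟶ E) [IsMonHom φ] (hu : u ≫ φ = u) (hv : φ ≫ v = v) : φ = 𝟙 E := by
  haveI := isMonHom_left hex
  haveI := isMonHom_right hex
  obtain ⟨f, hf⟩ := exists_defect hex φ hu hv
  refine eq_id_of_defect hex φ f hf ?_
  obtain ⟨m, hm⟩ := exists_eq_gpt eG f
  have h := hf (𝟙_ _) 1
  rw [MonObj.one_comp v, MonObj.one_comp φ, inv_one, _root_.mul_one] at h
  have h' : gpt eG m = 1 := by
    have e2 : (1 : 𝟙_ (Over (Spec (CommRingCat.of k))) ⟶ P) ≫ f = 1 :=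
      eq_of_comp_eq hex (by rw [h, MonObj.one_comp])
    rwa [hm, ← Category.assoc, toUnit_unique (1 ≫ toUnit P) (𝟙 _), Category.id_comp] at e2
  rw [hm, h', MonObj.comp_one]

/-- Homomorphisms from a quasi-compact group to a torsion-free constant group are trivial. -/
theorem eq_one_of_hom (hG : TwC.IsConstGrp Z G eG) (hZ : ∀ z : Z, IsOfFinOrder z → z = 1) [QuasiCompact P.hom]
    (f : P ⟶ G) (hf : ∀ (T : Over (Spec (CommRingCat.of k))) (x y : T ⟶ P), (x * y) ≫ f = (x ≫ f) * (y ≫ f)) :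
    f = 1 := by
  haveI : CompactSpace P.left := QuasiCompact.compactSpace_of_compactSpace P.hom
  let F : Set Z := {m : Z | ((piece eG m : Set G.left) ∩ Set.range f.left).Nonempty}
  have hF : F.Finite := finite_meet eG (isCompact_range f.left.continuous)
  rw [← toUnit_gpt_one hG P]
  refine eq_of_range eG f 1 fun p => ?_
  haveI : ConnectedSpace (GrpSchLib.ptObj p).left := inferInstanceAs (ConnectedSpace (Spec _))
  obtain ⟨m, hm⟩ := exists_eq_gpt eG (GrpSchLib.ptHom p ≫ f)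
  obtain ⟨t₀⟩ : Nonempty (GrpSchLib.ptObj p).left := inferInstance
  have hmem : ∀ (x : GrpSchLib.ptObj p ⟶ P) (n : Z), x ≫ f = toUnit _ ≫ gpt eG n → f.left (x.left t₀) ∈ piece eG n := by
    intro x n hx
    rw [← Scheme.Hom.comp_apply, ← Over.comp_left, hx, Over.comp_left, Scheme.Hom.comp_apply]
    exact gpt_mem eG n _
  have hpow : ∀ n : ℕ, (GrpSchLib.ptHom p ^ n) ≫ f = toUnit _ ≫ gpt eG (m ^ n) := by
    intro n
    induction n with
    | zero =>
      rw [pow_zero, pow_zero, toUnit_gpt_one hG]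
      have := hf (GrpSchLib.ptObj p) 1 1
      rw [_root_.mul_one] at this
      simpa using this
    | succ n ih => rw [pow_succ, hf, ih, hm, ← MonObj.comp_mul, gpt_mul hG, pow_succ]
  have hfin : IsOfFinOrder m := isOfFinOrder_of_finite hF m fun n =>
    ⟨_, hmem _ _ (hpow n), ⟨_, rfl⟩⟩
  have := hmem _ _ hm
  rw [GrpSchLib.ptHom_apply, hZ m hfin] at this
  exact this

end Groth.Agent.FppfExtLib
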