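import Groth.Agent.FppfExtLib.Rigid
import Groth.Agent.Neutral.Field
import Mathlib.AlgebraicGeometry.Morphisms.UniversallyInjective

/-!
# Extensions of connected groups by torsion-free constant groups split
-/

set_option autoImplicit false
set_option backward.isDefEq.respectTransparency false

universe u

open CategoryTheory MonoidalCategory CartesianMonoidalCategory MonObj GrpObj AlgebraicGeometry
open CategoryTheory.Limits

namespace Groth.Agent.FppfExtLib

variable {k : Type u} [Field k] {Z : Type u} [Group Z] {P G E : Over (Spec (CommRingCat.of k))}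
  [GrpObj P] [GrpObj G] [GrpObj E] {eG : G ≅ TwC.const (Spec (CommRingCat.of k)) Z}
  {u : G ⟶ E} {v : E ⟶ P}

theorem isClosedImmersion_left (hex : NonAbH1.IsExactSeq Scheme.fppfPrecoverage u v) :
    IsClosedImmersion u.left := by
  have sq : IsPullback u (toUnit G) v η[P] := by
    refine ⟨⟨by rw [hex.2.2.1, Hom.one_def]⟩, ⟨PullbackCone.isLimitAux' _ fun s => ?_⟩⟩
    have hs : s.fst ≫ v = 1 := by
      rw [s.condition, Hom.one_def]
      exact congrArg (· ≫ η[P]) (toUnit_unique _ _)
    choose c hc using exists_of_comp_eq_one hex _ hs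
    exact ⟨c, hc, toUnit_unique _ _, fun {m} h₁ _ => eq_of_comp_eq hex (h₁.trans hc.symm)⟩
  exact MorphismProperty.of_isPullback (P := @IsClosedImmersion) (sq.map (Over.forget _)).flip
    GrpSchLib.isClosedImmersion_unit

theorem exists_section (hG : TwC.IsConstGrp Z G eG) (hZ : ∀ z : Z, IsOfFinOrder z → z = 1)
    (hex : NonAbH1.IsExactSeq Scheme.fppfPrecoverage u v) [LocallyOfFiniteType P.hom] [ConnectedSpace P.left] :
    ∃ s : P ⟶ E, IsMonHom s ∧ s ≫ v = 𝟙 P := by
  haveI := isMonHom_left hex
  haveI := isMonHom_right hex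
  haveI := etale_of_const eG
  haveI := etale_right hex
  haveI := isClosedImmersion_left hex
  haveI : LocallyOfFiniteType E.hom := by rw [← Over.w v]; infer_instance
  haveI : IsLocallyNoetherian E.left := LocallyOfFiniteType.isLocallyNoetherian E.hom
  obtain ⟨E₀, str, incl, hincl, _, _, hrange, -, hcomp⟩ := Neutral.exists_neutralSubgroup E
  haveI : LocallyOfFinitePresentation incl.left := inferInstance
  haveI : IsOpenImmersion incl.left := IsOpenImmersion.of_flat_of_mono incl.left
  haveI : Mono incl := (Over.forget _).mono_of_mono_map (inferInstanceAs (Mono incl.left))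
  let Z₀ : Set Z := {m | ∃ a : 𝟙_ (Over (Spec (CommRingCat.of k))) ⟶ E₀, a ≫ incl = gpt eG m ≫ u}
  have hA : IsCompact (u.left ⁻¹' Set.range incl.left) :=
    u.left.isClosedEmbedding.isProperMap.isCompact_preimage (isCompact_range incl.left.continuous)
  have hfin : Z₀.Finite := by
    refine (finite_meet eG hA).subset fun m hm => ?_
    obtain ⟨a, ha⟩ := hm
    refine ⟨(gpt eG m).left (IsLocalRing.closedPoint k), gpt_mem eG m _, a.left (IsLocalRing.closedPoint k), ?_⟩
    rw [← Scheme.Hom.comp_apply, ← Over.comp_left, ha]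
    rfl
  have hpow : ∀ m ∈ Z₀, ∀ n : ℕ, m ^ n ∈ Z₀ := by
    rintro m ⟨a, ha⟩ n
    induction n with
    | zero => exact ⟨1, by rw [pow_zero, gpt_one hG, MonObj.one_comp, MonObj.one_comp]⟩
    | succ n ih =>
      obtain ⟨b, hb⟩ := ih
      exact ⟨b * a, by rw [pow_succ, ← gpt_mul hG, MonObj.mul_comp, MonObj.mul_comp, ha, hb]⟩
  have hone : ∀ m ∈ Z₀, m = 1 := fun m hm =>
    hZ m (isOfFinOrder_of_finite hfin m (hpow m hm))
  let ψ : E₀ ⟶ P := incl ≫ v
  have hker : ∀ (T : Over (Spec (CommRingCat.of k))) (c : T ⟶ E₀), c ≫ ψ = 1 → c = 1 := by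
    intro T c hc
    obtain ⟨d, hd⟩ := exists_of_comp_eq_one hex (c ≫ incl) (by rw [Category.assoc]; exact hc)
    have hd1 : d = toUnit T ≫ gpt eG 1 := by
      refine eq_of_range eG d 1 fun t => ?_
      obtain ⟨m, hm⟩ := exists_mem_piece eG (d.left t)
      have hpt : (gpt eG m).left (IsLocalRing.closedPoint k) = d.left t := by
        obtain ⟨w, hw⟩ := hm
        haveI : IsIso eG.hom.left := (Over.forget _).map_isIso eG.hom
        apply eG.hom.left.isOpenEmbedding.injective
        rw [← hw, ← Scheme.Hom.comp_apply, ← Over.comp_left, gpt, Category.assoc, eG.inv_hom_id,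
          Category.comp_id, Subsingleton.elim (α := PrimeSpectrum k) w (IsLocalRing.closedPoint k)]
        rfl
      have hr : Set.range (gpt eG m ≫ u).left ⊆ Set.range incl.left := by
        rintro _ ⟨s, rfl⟩
        rw [Subsingleton.elim (α := PrimeSpectrum k) s (IsLocalRing.closedPoint k)]
        refine ⟨c.left t, ?_⟩
        rw [← Scheme.Hom.comp_apply, ← Over.comp_left, ← hd, Over.comp_left, Over.comp_left,
          Scheme.Hom.comp_apply, Scheme.Hom.comp_apply, hpt]
      have hmem : m ∈ Z₀ := ⟨Over.homMk (IsOpenImmersion.lift incl.left (gpt eG m ≫ u).left hr) (by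
          rw [← Over.w incl, ← Category.assoc, IsOpenImmersion.lift_fac, Over.w]),
        Over.OverMorphism.ext (IsOpenImmersion.lift_fac incl.left (gpt eG m ≫ u).left hr)⟩
      rwa [hone m hmem] at hm
    rw [toUnit_gpt_one hG] at hd1
    rw [← cancel_mono incl, ← hd, hd1, MonObj.one_comp, MonObj.one_comp]
  haveI : Mono ψ := ⟨fun {T} a b h => mul_inv_eq_one.mp (hker T (a * b⁻¹) (by
    rw [MonObj.mul_comp, GrpObj.inv_comp, h, mul_inv_cancel]))⟩
  haveI : Mono ψ.left := (Over.forget _).map_mono ψ
  haveI : AlgebraicGeometry.Etale ψ.left := inferInstanceAs (AlgebraicGeometry.Etale (incl.left ≫ v.left))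
  haveI : IsOpenImmersion ψ.left := IsOpenImmersion.of_flat_of_mono ψ.left
  have hsurj : Surjective ψ.left := by
    have hcl : IsClopen (Set.range ψ.left) :=
      ⟨GrpSchLib.isClosed_range_of_isOpen ψ ψ.left.isOpenEmbedding.isOpen_range,
        ψ.left.isOpenEmbedding.isOpen_range⟩
    exact ⟨Set.range_eq_univ.1 (hcl.eq_univ ⟨_, (1 : 𝟙_ (Over (Spec (CommRingCat.of k))) ⟶ E₀).left
      (IsLocalRing.closedPoint k), rfl⟩)⟩
  haveI : IsIso ψ.left := (isIso_iff_isOpenImmersion_and_surjective _).2 ⟨inferInstance, hsurj⟩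
  haveI : IsIso ψ := by
    haveI : IsIso ((Over.forget _).map ψ) := inferInstanceAs (IsIso ψ.left)
    exact isIso_of_reflects_iso ψ (Over.forget _)
  refine ⟨inv ψ ≫ incl, ?_, ?_⟩
  · haveI : IsMonHom (inv ψ) := inferInstanceAs (IsMonHom (asIso ψ).inv)
    exact inferInstance
  · rw [Category.assoc]
    exact IsIso.inv_hom_id ψ

end Groth.Agent.FppfExtLib
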